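import Groth.Agent.H9Jac.Basic
import Mathlib.RingTheory.Regular.RegularSequence
import Mathlib.RingTheory.FiniteType

/-!
# Smoothness from a smooth quotient by a regular sequence
-/

noncomputable section

set_option autoImplicit false
set_option linter.style.haveILetI false
set_option backward.isDefEq.respectTransparency false
set_option backward.isDefEq.respectTransparency.types false

universe u

open TensorProduct IsLocalRing KaehlerDifferential

namespace Groth.Agent.H9RegSm

/-- `K ⊓ (l) ≤ (l) K` for a sequence regular modulo `K`. -/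
theorem inf_ofList_le {A : Type u} [CommRing A] : ∀ (l : List A) (K : Ideal A),
    (∀ (i : ℕ) (h : i < l.length) (a : A), a * l[i] ∈ K ⊔ Ideal.ofList (l.take i) →
      a ∈ K ⊔ Ideal.ofList (l.take i)) →
    K ⊓ Ideal.ofList l ≤ Ideal.ofList l * K
  | [], K, _ => by simp
  | f :: l, K, H => by
    intro x hx
    obtain ⟨hxK, hxl⟩ := hx
    rw [Ideal.ofList_cons] at hxl ⊢
    obtain ⟨_, haf, y, hy, rfl⟩ := Submodule.mem_sup.1 hxl
    obtain ⟨a, rfl⟩ := Ideal.mem_span_singleton'.1 haf
    have IH := inf_ofList_le l (K ⊔ Ideal.span {f}) fun i h b hb => by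
      have := H (i + 1) (by simpa using h) b
      simp only [List.getElem_cons_succ, List.take_succ_cons, Ideal.ofList_cons, ← sup_assoc] at this
      exact this hb
    have hyK : y ∈ K ⊔ Ideal.span {f} := by
      rw [show y = (a * f + y) + -(a * f) by ring]
      exact add_mem (Submodule.mem_sup_left hxK)
        (Submodule.mem_sup_right (neg_mem (Ideal.mem_span_singleton'.2 ⟨a, rfl⟩)))
    have hy' := IH ⟨hyK, hy⟩
    rw [Ideal.mul_sup, Submodule.mem_sup] at hy'
    obtain ⟨k, hk, w, hw, rfl⟩ := hy'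
    obtain ⟨b, hb, rfl⟩ := Ideal.mem_mul_span_singleton.1 hw
    have hkK : k ∈ K := Ideal.mul_le_right hk
    have h0 : (a + b) * f ∈ K := by
      rw [show (a + b) * f = (a * f + (k + b * f)) - k by ring]
      exact sub_mem hxK hkK
    have hab := H 0 (by simp) (a + b) (by simpa using h0)
    simp only [List.take_zero, Ideal.ofList_nil, sup_bot_eq] at hab
    rw [show a * f + (k + b * f) = f * (a + b) + k by ring, Ideal.sup_mul]
    exact add_mem (Submodule.mem_sup_left (Ideal.mul_mem_mul (Ideal.mem_span_singleton_self f) hab))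
      (Submodule.mem_sup_right hk)

/-- Hypothesis of `inf_ofList_le` from weak regularity in a quotient. -/
theorem regMod_of_surjective {A B : Type u} [CommRing A] [CommRing B] (π : A →+* B)
    (hπ : Function.Surjective π) (l : List A) (h : RingTheory.Sequence.IsWeaklyRegular B (l.map π))
    (i : ℕ) (hi : i < l.length) (a : A) (ha : a * l[i] ∈ RingHom.ker π ⊔ Ideal.ofList (l.take i)) :
    a ∈ RingHom.ker π ⊔ Ideal.ofList (l.take i) := by
  have key : RingHom.ker π ⊔ Ideal.ofList (l.take i) = (Ideal.ofList ((l.map π).take i)).comap π := by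
    rw [← List.map_take, ← Ideal.map_ofList, Ideal.comap_map_of_surjective π hπ, sup_comm,
      RingHom.ker_eq_comap_bot]
  rw [key, Ideal.mem_comap] at ha ⊢
  have hreg := h.regular_mod_prev i (by simpa using hi)
  have := hreg (a₁ := Submodule.Quotient.mk (π a)) (a₂ := 0) (by
    simp only [smul_zero]
    rw [← Submodule.Quotient.mk_smul, Submodule.Quotient.mk_eq_zero, smul_eq_mul, smul_eq_mul,
      Ideal.mul_top]
    simpa [mul_comm] using ha)
  rw [Submodule.Quotient.mk_eq_zero, smul_eq_mul, Ideal.mul_top] at this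
  exact this

variable {R A : Type u} [CommRing R] [CommRing A] [IsNoetherianRing R] [Algebra R A] [Algebra.Smooth R A]

/-- `A/K` is smooth where `A/L` is, when `L/K` is locally generated by a regular sequence. -/
theorem smoothAt_aux (K L : Ideal A) (hKL : K ≤ L) (q : Ideal A) [q.IsPrime] (hLq : L ≤ q)
    (s : Finset A) (hsL : (↑s : Set A) ⊆ (L : Set A))
    (hs : L.map (algebraMap A (Localization.AtPrime q)) =
      Ideal.span (algebraMap A (Localization.AtPrime q) '' (↑s : Set A)))
    (hind : LinearIndependent q.ResidueField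
      (fun g : ↥s => (1 : q.ResidueField) ⊗ₜ[A] KaehlerDifferential.D R A (g : A)))
    (fs : List (Localization.AtPrime q))
    (hgen : L.map (algebraMap A (Localization.AtPrime q)) =
      K.map (algebraMap A (Localization.AtPrime q)) ⊔ Ideal.ofList fs)
    (hreg : ∀ (i : ℕ) (h : i < fs.length) (a : Localization.AtPrime q),
      a * fs[i] ∈ K.map (algebraMap A (Localization.AtPrime q)) ⊔ Ideal.ofList (fs.take i) →
      a ∈ K.map (algebraMap A (Localization.AtPrime q)) ⊔ Ideal.ofList (fs.take i)) :
    ∃ t : Finset A, (↑t : Set A) ⊆ (K : Set A) ∧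
      K.map (algebraMap A (Localization.AtPrime q)) =
        Ideal.span (algebraMap A (Localization.AtPrime q) '' (↑t : Set A)) ∧
      LinearIndependent q.ResidueField
        (fun g : ↥t => (1 : q.ResidueField) ⊗ₜ[A] KaehlerDifferential.D R A (g : A)) := by
  classical
  let B := Localization.AtPrime q
  let k := q.ResidueField
  haveI : IsNoetherianRing A := Algebra.FiniteType.isNoetherianRing R A
  haveI : IsNoetherianRing B := IsLocalization.isNoetherianRing q.primeCompl B inferInstance
  haveI : Algebra.FormallyEtale A B := .of_isLocalization q.primeCompl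
  let eΩ := KaehlerDifferential.tensorKaehlerEquivOfFormallyEtale R A B
  let e : k ⊗[B] Ω[B⁄R] ≃ₗ[k] k ⊗[A] Ω[A⁄R] :=
    (AlgebraTensorModule.congr (LinearEquiv.refl k k) eΩ.symm) ≪≫ₗ
      AlgebraTensorModule.cancelBaseChange A B k k Ω[A⁄R]
  let δ : B → k ⊗[A] Ω[A⁄R] := fun x => e ((1 : k) ⊗ₜ[B] D R B x)
  have hδA : ∀ a : A, δ (algebraMap A B a) = (1 : k) ⊗ₜ[A] D R A a := fun a => by
    simp only [δ, e, LinearEquiv.trans_apply, AlgebraTensorModule.congr_tmul, LinearEquiv.refl_apply,
      eΩ, tensorKaehlerEquivOfFormallyEtale_symm_D_algebraMap, AlgebraTensorModule.cancelBaseChange_tmul,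
      one_smul]
  have hδadd : ∀ x y, δ (x + y) = δ x + δ y := fun x y => by
    simp only [δ, map_add, TensorProduct.tmul_add]
  have hδmul : ∀ c x : B, x ∈ maximalIdeal B → δ (c * x) = algebraMap B k c • δ x := fun c x hx => by
    have h0 : algebraMap B k x = 0 := IsLocalRing.residue_eq_zero_iff x |>.2 hx
    simp only [δ, ← map_smul]
    congr 1
    rw [Derivation.leibniz, TensorProduct.tmul_add, TensorProduct.tmul_smul, TensorProduct.tmul_smul,
      ← algebraMap_smul k x ((1 : k) ⊗ₜ[B] D R B c), h0, zero_smul, add_zero, algebraMap_smul]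
  have hδzero : δ 0 = 0 := by simp [δ]
  have hmax : ∀ a ∈ L, algebraMap A B a ∈ maximalIdeal B := fun a ha =>
    (IsLocalization.AtPrime.to_map_mem_maximal_iff B q a).2 (hLq ha)
  let LB := L.map (algebraMap A B)
  let KB := K.map (algebraMap A B)
  have hLBm : LB ≤ maximalIdeal B := Ideal.map_le_iff_le_comap.2 hmax
  -- the span of the differentials of `K`
  let S : Set (k ⊗[A] Ω[A⁄R]) := Set.range fun a : ↥K => δ (algebraMap A B a)
  obtain ⟨b, hbS, hbspan, hbind⟩ := exists_linearIndependent k S
  choose g hg using fun x : b => hbS x.2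
  haveI : Module.Finite k (k ⊗[A] Ω[A⁄R]) := inferInstance
  haveI : Fintype b := hbind.setFinite.fintype
  let t : Finset A := Finset.univ.image fun x : b => (g x : A)
  have htK : (↑t : Set A) ⊆ (K : Set A) := fun a ha => by
    obtain ⟨x, -, rfl⟩ := Finset.mem_image.1 ha
    exact (g x).2
  let T : Ideal B := Ideal.span (algebraMap A B '' (↑t : Set A))
  have hTK : T ≤ KB := Ideal.span_le.2 (by
    rintro _ ⟨a, ha, rfl⟩
    exact Ideal.mem_map_of_mem _ (htK ha))
  have hKLB : KB ≤ LB := Ideal.map_mono hKL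
  -- elements of `L` with vanishing differential lie in `m L`
  have hker : ∀ x ∈ LB, δ x = 0 → x ∈ maximalIdeal B * LB := by
    intro x hx hx0
    rw [show LB = _ from hs, Set.image_eq_range] at hx
    obtain ⟨c, hc⟩ := Ideal.mem_span_range_iff_exists_fun.1 hx
    subst hc
    have hsum : δ (∑ i, c i * algebraMap A B (i : A)) =
        ∑ i : ↥(↑s : Set A), algebraMap B k (c i) • ((1 : k) ⊗ₜ[A] D R A (i : A)) := by
      let δ' : B →+ k ⊗[A] Ω[A⁄R] := { toFun := δ, map_zero' := hδzero, map_add' := hδadd }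
      show δ' _ = _
      rw [map_sum]
      refine Finset.sum_congr rfl fun i _ => ?_
      show δ _ = _
      rw [hδmul _ _ (hmax _ (hsL i.2)), hδA]
    rw [hsum] at hx0
    refine Ideal.sum_mem _ fun i _ => Ideal.mul_mem_mul ?_ (Ideal.mem_map_of_mem _ (hsL i.2))
    exact (IsLocalRing.residue_eq_zero_iff _).1 (Fintype.linearIndependent_iff.1 hind _ hx0 i)
  -- every element of `K` agrees to first order with one of `T`
  have hKT : ∀ x ∈ KB, ∃ y ∈ T, δ y = δ x := by
    intro x hx
    have hxS : δ x ∈ Submodule.span k S := by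
      refine Submodule.span_induction (p := fun z _ => z ∈ KB ∧ δ z ∈ Submodule.span k S) ?_ ?_ ?_ ?_ hx |>.2
      · rintro _ ⟨a, ha, rfl⟩
        exact ⟨Ideal.mem_map_of_mem _ ha, Submodule.subset_span ⟨⟨a, ha⟩, rfl⟩⟩
      · exact ⟨zero_mem _, by rw [hδzero]; exact zero_mem _⟩
      · rintro u v - - ⟨hu, hu'⟩ ⟨hv, hv'⟩
        exact ⟨add_mem hu hv, by rw [hδadd]; exact add_mem hu' hv'⟩
      · rintro c u - ⟨hu, hu'⟩
        exact ⟨Ideal.mul_mem_left _ c hu, by
          rw [smul_eq_mul, hδmul c u (hLBm (hKLB hu))]; exact Submodule.smul_mem _ _ hu'⟩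
    rw [← hbspan] at hxS
    refine Submodule.span_induction (p := fun z _ => ∃ y ∈ T, δ y = z) ?_ ?_ ?_ ?_ hxS
    · intro z hz
      exact ⟨_, Ideal.subset_span ⟨_, Finset.mem_image.2 ⟨⟨z, hz⟩, Finset.mem_univ _, rfl⟩, rfl⟩, hg ⟨z, hz⟩⟩
    · exact ⟨0, zero_mem _, hδzero⟩
    · rintro u v - - ⟨y, hy, rfl⟩ ⟨y', hy', rfl⟩
      exact ⟨y + y', add_mem hy hy', hδadd _ _⟩
    · rintro c u - ⟨y, hy, rfl⟩
      obtain ⟨c, rfl⟩ := IsLocalRing.residue_surjective (R := B) c
      exact ⟨c * y, Ideal.mul_mem_left _ c hy, hδmul c y (hLBm (hKLB (hTK hy)))⟩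
  have hnak : LB ≤ T ⊔ Ideal.ofList fs := by
    refine Submodule.le_of_le_smul_of_le_jacobson_bot (I := maximalIdeal B)
      (IsNoetherian.noetherian LB) (maximalIdeal_le_jacobson _) ?_
    conv_lhs => rw [show LB = _ from hgen]
    refine sup_le (fun x hx => ?_) (le_sup_right.trans le_sup_left)
    obtain ⟨y, hy, hyx⟩ := hKT x hx
    have hxy : δ (x - y) = 0 := by
      have := hδadd (x - y) y
      rw [sub_add_cancel, hyx] at this
      exact right_eq_add.1 this
    rw [show x = y + (x - y) by ring]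
    exact add_mem (Submodule.mem_sup_left (Submodule.mem_sup_left hy))
      (Submodule.mem_sup_right (hker _ (sub_mem (hKLB hx) (hKLB (hTK hy))) hxy))
  have hfsm : Ideal.ofList fs ≤ maximalIdeal B := (le_sup_right.trans hgen.ge).trans hLBm
  have hKeq : KB ≤ T := by
    refine Submodule.le_of_le_smul_of_le_jacobson_bot (I := maximalIdeal B)
      (IsNoetherian.noetherian KB) (maximalIdeal_le_jacobson _) fun x hx => ?_
    obtain ⟨y, hy, z, hz, rfl⟩ := Submodule.mem_sup.1 (hnak (hKLB hx))
    have hzK : z ∈ KB := (Submodule.add_mem_iff_right _ (hTK hy)).1 hx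
    exact add_mem (Submodule.mem_sup_left hy)
      (Submodule.mem_sup_right (Ideal.mul_mono hfsm le_rfl (inf_ofList_le fs KB hreg ⟨hzK, hz⟩)))
  refine ⟨t, htK, le_antisymm hKeq hTK, ?_⟩
  have hgv : Function.Injective (fun x : b => (g x : A)) := fun x y h => by
    refine Subtype.ext ?_
    rw [← hg x, ← hg y]
    exact congrArg (fun a => δ (algebraMap A B a)) h
  let eq : b ≃ ↥t := Equiv.ofBijective (fun x => ⟨g x, Finset.mem_image.2 ⟨x, Finset.mem_univ _, rfl⟩⟩)
    ⟨fun x y h => hgv (congrArg Subtype.val h :), fun y => by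
      obtain ⟨x, -, hx⟩ := Finset.mem_image.1 y.2
      exact ⟨x, Subtype.ext hx⟩⟩
  refine (linearIndependent_equiv eq).1 ?_
  have h2 : (fun x : b => (1 : k) ⊗ₜ[A] D R A (g x : A)) = fun x : b => (x : k ⊗[A] Ω[A⁄R]) :=
    funext fun x => by rw [← hδA]; exact hg x
  show LinearIndependent k (fun x : b => (1 : k) ⊗ₜ[A] D R A (g x : A))
  rw [h2]
  exact hbind

/-- A finite type algebra is smooth at a prime containing an ideal with smooth quotient which is locally
generated by a regular sequence. -/
theorem smoothAt_of_regular {B : Type u} [CommRing B] [Algebra R B] [Algebra.FiniteType R B]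
    (I : Ideal B) (P : Ideal (B ⧸ I)) [P.IsPrime] (q : Ideal B) [q.IsPrime]
    (hq : q = P.comap (Ideal.Quotient.mk I)) (hP : Algebra.IsSmoothAt R P)
    (fs : List (Localization.AtPrime q))
    (hfs : RingTheory.Sequence.IsWeaklyRegular (Localization.AtPrime q) fs)
    (hgen : I.map (algebraMap B (Localization.AtPrime q)) = Ideal.ofList fs) :
    Algebra.IsSmoothAt R q := by
  obtain ⟨n, π, hπ⟩ := Algebra.FiniteType.iff_quotient_mvPolynomial''.1 (inferInstance : Algebra.FiniteType R B)
  subst hq
  let A := MvPolynomial (Fin n) R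
  haveI : Algebra.Smooth R A := ⟨inferInstance, inferInstance⟩
  let K : Ideal A := RingHom.ker π.toRingHom
  let L : Ideal A := I.comap π.toRingHom
  let φ : A →ₐ[R] B ⧸ I := (Ideal.Quotient.mkₐ R I).comp π
  have hφ : Function.Surjective φ := Ideal.Quotient.mk_surjective.comp hπ
  have hL : RingHom.ker φ.toRingHom = L := Ideal.ext fun a => by
    rw [RingHom.mem_ker]; exact Ideal.Quotient.eq_zero_iff_mem
  let e₁ : (A ⧸ L) ≃ₐ[R] (B ⧸ I) :=
    (Ideal.quotientEquivAlgOfEq R hL.symm).trans (Ideal.quotientKerAlgEquivOfSurjective hφ)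
  let P₁ : Ideal (A ⧸ L) := P.comap e₁.toRingHom
  haveI : P₁.IsPrime := Ideal.comap_isPrime _ _
  let Q₀ : Ideal B := P.comap (Ideal.Quotient.mk I)
  let Q : Ideal A := P₁.comap (Ideal.Quotient.mk L)
  haveI : Q.IsPrime := Ideal.comap_isPrime _ _
  have hQ : Q = Q₀.comap π.toRingHom := Ideal.ext fun a => Iff.rfl
  have hP₁ : Algebra.IsSmoothAt R P₁ := isSmoothAt_of_algEquiv e₁ P hP
  obtain ⟨s, hsL, hs, hind⟩ := (H9Jac.main L P₁).1 hP₁
  let ψ : Localization.AtPrime Q →+* Localization.AtPrime Q₀ :=
    Localization.localRingHom Q Q₀ π.toRingHom hQ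
  have hψ : Function.Surjective ψ := surjective_localRingHom π.toRingHom hπ Q Q₀ hQ
  have hψker : RingHom.ker ψ = K.map (algebraMap A (Localization.AtPrime Q)) :=
    ker_localRingHom' π.toRingHom hπ Q Q₀ hQ
  choose lift hlift using hψ
  let fs' : List (Localization.AtPrime Q) := fs.map lift
  have hfs' : fs'.map ψ = fs := by simp [fs', List.map_map, Function.comp_def, hlift]
  have hgen' : L.map (algebraMap A (Localization.AtPrime Q)) =
      K.map (algebraMap A (Localization.AtPrime Q)) ⊔ Ideal.ofList fs' := by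
    have h1 : (L.map (algebraMap A (Localization.AtPrime Q))).map ψ = (Ideal.ofList fs').map ψ := by
      rw [Ideal.map_ofList, hfs', ← hgen, Ideal.map_map,
        show ψ.comp (algebraMap A _) = (algebraMap B (Localization.AtPrime Q₀)).comp π.toRingHom from
          RingHom.ext fun a => Localization.localRingHom_to_map Q Q₀ π.toRingHom hQ a,
        ← Ideal.map_map, Ideal.map_comap_of_surjective π.toRingHom hπ]
    have h2 := congrArg (Ideal.comap ψ) h1
    rw [Ideal.comap_map_of_surjective ψ (fun y => ⟨lift y, hlift y⟩),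
      Ideal.comap_map_of_surjective ψ (fun y => ⟨lift y, hlift y⟩), ← RingHom.ker_eq_comap_bot, hψker,
      sup_eq_left.2 (Ideal.map_mono (fun a ha => by
        show π a ∈ I
        rw [show π a = 0 from ha]; exact I.zero_mem))] at h2
    rw [h2, sup_comm]
  obtain ⟨t, htK, ht, htind⟩ := smoothAt_aux K L
    (fun a ha => by show π a ∈ I; rw [show π a = 0 from ha]; exact I.zero_mem) Q
    (fun a ha => by
      show Ideal.Quotient.mk L a ∈ P₁
      rw [Ideal.Quotient.eq_zero_iff_mem.2 ha]; exact P₁.zero_mem)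
    s hsL hs hind fs' hgen' (by
      rw [← hψker]
      exact regMod_of_surjective ψ (fun y => ⟨lift y, hlift y⟩) fs' (hfs'.symm ▸ hfs))
  let e₂ : (A ⧸ K) ≃ₐ[R] B := Ideal.quotientKerAlgEquivOfSurjective hπ
  let P₂ : Ideal (A ⧸ K) := Q₀.comap e₂.toRingHom
  haveI : P₂.IsPrime := Ideal.comap_isPrime _ _
  have hQ2 : P₂.comap (Ideal.Quotient.mk K) = Q := Ideal.ext fun a => Iff.rfl
  have hP₂ : Algebra.IsSmoothAt R P₂ := by
    refine (H9Jac.main K P₂).2 ⟨t, htK, ?_⟩
    exact ⟨ht, htind⟩
  refine isSmoothAt_of_algEquiv e₂.symm P₂ hP₂ |> fun h => ?_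
  have : P₂.comap e₂.symm.toRingHom = Q₀ := Ideal.ext fun b => by
    show e₂ (e₂.symm b) ∈ Q₀ ↔ _
    rw [e₂.apply_symm_apply]
  convert h using 1 <;> exact this.symm
where
  isSmoothAt_of_algEquiv {C D : Type u} [CommRing C] [CommRing D] [Algebra R C] [Algebra R D]
      (e : C ≃ₐ[R] D) (P : Ideal D) [P.IsPrime] (h : Algebra.IsSmoothAt R P) :
      Algebra.IsSmoothAt R (P.comap e.toRingHom) := by
    haveI : Algebra.FormallySmooth R (Localization.AtPrime P) := h
    refine Algebra.FormallySmooth.of_equiv (A := Localization.AtPrime P)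
      (IsLocalization.algEquivOfAlgEquiv (M := P.primeCompl) (T := (P.comap e.toRingHom).primeCompl)
        (Localization.AtPrime P) (Localization.AtPrime (P.comap e.toRingHom)) e.symm ?_)
    ext x
    constructor
    · rintro ⟨y, hy, rfl⟩ hmem
      exact hy (by simpa [Ideal.mem_comap] using hmem)
    · intro hx
      exact ⟨e x, hx, e.symm_apply_apply x⟩
  surjective_localRingHom {C D : Type u} [CommRing C] [CommRing D] (f : C →+* D) (hf : Function.Surjective f)
      (I : Ideal C) [I.IsPrime] (J : Ideal D) [J.IsPrime] (h : I = J.comap f) :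
      Function.Surjective (Localization.localRingHom I J f h) := by
    subst h
    exact RingHom.surjective_localRingHom_of_surjective f hf J
  ker_localRingHom' {C D : Type u} [CommRing C] [CommRing D] (f : C →+* D) (hf : Function.Surjective f)
      (I : Ideal C) [I.IsPrime] (J : Ideal D) [J.IsPrime] (h : I = J.comap f) :
      RingHom.ker (Localization.localRingHom I J f h) =
        (RingHom.ker f).map (algebraMap C (Localization.AtPrime I)) := by
    have hM : Submonoid.map f I.primeCompl = J.primeCompl := by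
      ext b
      constructor
      · rintro ⟨a, ha, rfl⟩ hb
        exact ha (by rw [h]; exact hb)
      · intro hb
        obtain ⟨a, rfl⟩ := hf b
        exact ⟨a, fun h' => hb (by rw [h] at h'; exact h'), rfl⟩
    exact IsLocalization.ker_map (Localization.AtPrime J) f hM

end Groth.Agent.H9RegSm
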