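import Groth.Agent.H9RegSm.Ring
import Groth.Prelude.Def_CInt
import Groth.Prelude.Def_Mor2
import Groth.Prelude.Def_RegImm
import Groth.Agent.FlatX.SyntSmooth
import Groth.Agent.KRegLib.Regular
import Groth.Agent.GrpSchLib.SmoothRegular
import Groth.Agent.RegImmLib.Basic
import Mathlib.AlgebraicGeometry.Morphisms.Smooth

/-!
# Smoothness along a smooth closed subscheme and regular ideals
-/

noncomputable section

set_option autoImplicit false
set_option linter.style.haveILetI false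
set_option backward.isDefEq.respectTransparency false
set_option backward.isDefEq.respectTransparency.types false

universe u

open CategoryTheory AlgebraicGeometry Limits

namespace Groth.Agent.H9RegSm

theorem isCIMorphism_of_smooth {X S : Scheme.{u}} (f : X ⟶ S) [Smooth f] : CInt.IsCIMorphism f := by
  refine ⟨inferInstance, inferInstance, fun x => ?_⟩
  haveI : Smooth (f.fiberToSpecResidueField (f x)) := MorphismProperty.pullback_snd _ _ inferInstance
  haveI : IsRegularLocalRing (CInt.fiberStalk f x) :=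
    GrpSchLib.isRegularLocalRing_stalk_of_smooth (K := S.residueField (f x))
      (f.fiberToSpecResidueField (f x)) (f.asFiber x)
  exact KRegLib.isCompleteIntersection_of_regular _

theorem smooth_ι_comp {X S : Scheme.{u}} (f : X ⟶ S) [LocallyOfFinitePresentation f] (W : X.Opens)
    (hW : W ≤ f.smoothLocus) : Smooth (W.ι ≫ f) := by
  rw [← Scheme.Hom.smoothLocus_eq_top_iff, ← Scheme.Hom.preimage_smoothLocus_eq, ← top_le_iff]
  exact fun w _ => hW w.2

/-- Localization of a kernel. -/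
theorem ker_stalkMap_eq_map {Z X : Scheme.{u}} (i : Z ⟶ X) (U : X.Opens) (hU : IsAffineOpen U)
    (hV : IsAffineOpen (i ⁻¹ᵁ U)) (hs : Function.Surjective (i.app U).hom) (z : Z) (hzU : i z ∈ U) :
    RingHom.ker (i.stalkMap z).hom =
      (RingHom.ker (i.app U).hom).map (X.presheaf.germ U (i z) hzU).hom := by
  let φ : Γ(X, U) →+* Γ(Z, i ⁻¹ᵁ U) := (i.app U).hom
  letI : Algebra Γ(X, U) (X.presheaf.stalk (i z)) := (X.presheaf.germ U (i z) hzU).hom.toAlgebra
  letI : Algebra Γ(Z, i ⁻¹ᵁ U) (Z.presheaf.stalk z) := (Z.presheaf.germ (i ⁻¹ᵁ U) z hzU).hom.toAlgebra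
  haveI hX : IsLocalization.AtPrime (X.presheaf.stalk (i z)) (hU.primeIdealOf ⟨i z, hzU⟩).asIdeal :=
    hU.isLocalization_stalk ⟨i z, hzU⟩
  haveI hZ : IsLocalization.AtPrime (Z.presheaf.stalk z) (hV.primeIdealOf ⟨z, hzU⟩).asIdeal :=
    hV.isLocalization_stalk ⟨z, hzU⟩
  have hcomap : (hU.primeIdealOf ⟨i z, hzU⟩).asIdeal = (hV.primeIdealOf ⟨z, hzU⟩).asIdeal.comap φ := by
    rw [show φ = (i.appLE U (i ⁻¹ᵁ U) le_rfl).hom by simp only [φ, Scheme.Hom.app_eq_appLE]]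
    exact (congrArg PrimeSpectrum.asIdeal
      (IsAffineOpen.comap_primeIdealOf_appLE (f := i) U hU (i ⁻¹ᵁ U) hV le_rfl hzU)).symm
  let f : X.presheaf.stalk (i z) →+* Z.presheaf.stalk z := (i.stalkMap z).hom
  have hf : ∀ a : Γ(X, U), f (algebraMap _ _ a) = algebraMap _ _ (φ a) := fun a =>
    Scheme.Hom.germ_stalkMap_apply i U z hzU a
  have hM : Submonoid.map φ (hU.primeIdealOf ⟨i z, hzU⟩).asIdeal.primeCompl =
      (hV.primeIdealOf ⟨z, hzU⟩).asIdeal.primeCompl := by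
    ext b
    constructor
    · rintro ⟨a, ha, rfl⟩ hb
      exact ha (by rw [hcomap]; exact hb)
    · intro hb
      obtain ⟨a, rfl⟩ := hs b
      exact ⟨a, fun h => hb (by rw [hcomap] at h; exact h), rfl⟩
  have hfm : f = IsLocalization.map (Z.presheaf.stalk z) φ
      (show (hU.primeIdealOf ⟨i z, hzU⟩).asIdeal.primeCompl ≤
        (hV.primeIdealOf ⟨z, hzU⟩).asIdeal.primeCompl.comap φ from
        Submonoid.map_le_iff_le_comap.1 hM.le) := by
    refine IsLocalization.ringHom_ext (hU.primeIdealOf ⟨i z, hzU⟩).asIdeal.primeCompl (RingHom.ext fun a => ?_)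
    rw [RingHom.comp_apply, RingHom.comp_apply, hf, IsLocalization.map_eq]
  show RingHom.ker f = _
  rw [hfm]
  exact IsLocalization.ker_map (Z.presheaf.stalk z) φ hM

variable {X S Y : Scheme.{u}} [IsLocallyNoetherian S] (f : X ⟶ S) [LocallyOfFinitePresentation f]
  (i : Y ⟶ X) [IsClosedImmersion i] [LocallyOfFinitePresentation (i ≫ f)]

theorem regular_of_smooth (x : Y) (hY : x ∈ (i ≫ f).smoothLocus) (hx : i x ∈ f.smoothLocus) :
    CInt.IsRegularIdeal (RingHom.ker (i.stalkMap x).hom) := by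
  let T : X.Opens := ⟨(i '' ((i ≫ f).smoothLocus : Set Y)ᶜ)ᶜ,
    (i.isClosedEmbedding.isClosedMap _ (i ≫ f).smoothLocus.isOpen.isClosed_compl).isOpen_compl⟩
  let W : X.Opens := f.smoothLocus ⊓ T
  have hxW : i x ∈ W := ⟨hx, fun ⟨y, hy, e⟩ => hy (by rw [i.isClosedEmbedding.injective e]; exact hY)⟩
  haveI : Smooth (W.ι ≫ f) := smooth_ι_comp f W inf_le_left
  haveI : Smooth ((i ∣_ W) ≫ W.ι ≫ f) := by
    rw [morphismRestrict_ι_assoc]
    exact smooth_ι_comp (i ≫ f) (i ⁻¹ᵁ W) fun y hy => by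
      by_contra hne
      exact hy.2 ⟨y, hne, rfl⟩
  have hreg := Groth.Agent.FlatX.regClosed_of_syntomic (W.ι ≫ f) (i ∣_ W) (isCIMorphism_of_smooth _)
  let z : (i ⁻¹ᵁ W).toScheme := ⟨x, hxW⟩
  obtain ⟨U, hU, hzU, rs, hrs, hker⟩ := hreg.2 z
  obtain ⟨hV, hs⟩ := Groth.Agent.Synt29.surjective_app_of_isClosedImmersion_restrict (i ∣_ W) U hU
  rw [Scheme.Hom.ker_apply] at hker
  have hk := ker_stalkMap_eq_map (i ∣_ W) U hU hV hs z hzU
  rw [hker, Ideal.map_ofList] at hk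
  let g : Γ((W : Scheme.{u}), U) →+* (W : Scheme.{u}).presheaf.stalk ((i ∣_ W) z) :=
    ((W : Scheme.{u}).presheaf.germ U _ hzU).hom
  letI : Algebra Γ((W : Scheme.{u}), U) ((W : Scheme.{u}).presheaf.stalk ((i ∣_ W) z)) := g.toAlgebra
  haveI : IsLocalization.AtPrime ((W : Scheme.{u}).presheaf.stalk ((i ∣_ W) z))
      (hU.primeIdealOf ⟨(i ∣_ W) z, hzU⟩).asIdeal := hU.isLocalization_stalk ⟨(i ∣_ W) z, hzU⟩
  haveI : Module.Flat Γ((W : Scheme.{u}), U) ((W : Scheme.{u}).presheaf.stalk ((i ∣_ W) z)) :=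
    IsLocalization.flat _ (hU.primeIdealOf ⟨(i ∣_ W) z, hzU⟩).asIdeal.primeCompl
  have hw : RingTheory.Sequence.IsWeaklyRegular ((W : Scheme.{u}).presheaf.stalk ((i ∣_ W) z)) (rs.map g) :=
    RingTheory.Sequence.IsWeaklyRegular.of_flat hrs.toIsWeaklyRegular
  let e := morphismRestrictStalkMap i W z
  let el : (W : Scheme.{u}).presheaf.stalk ((i ∣_ W) z) ≅ X.presheaf.stalk (i x) :=
    Arrow.leftFunc.mapIso e
  let er : (i ⁻¹ᵁ W).toScheme.presheaf.stalk z ≅ Y.presheaf.stalk x := Arrow.rightFunc.mapIso e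
  have hsq : el.hom ≫ i.stalkMap x = (i ∣_ W).stalkMap z ≫ er.hom := Arrow.w e.hom
  let el' := el.commRingCatIsoToRingEquiv
  have hmap : Ideal.ofList ((rs.map g).map el') = (Ideal.ofList (rs.map g)).map el' :=
    (Ideal.map_ofList el'.toRingHom (rs.map g)).symm
  refine ⟨(rs.map g).map el', ⟨(el'.toAddEquiv.isWeaklyRegular_congr
    (List.forall₂_map_right_iff.mpr (List.forall₂_same.mpr fun r _ a => el'.map_mul r a))).1 hw, ?_⟩, ?_⟩
  rotate_left
  · refine Ideal.ext fun a => ?_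
    obtain ⟨a, rfl⟩ := el'.surjective a
    have h1 : (i.stalkMap x).hom (el' a) = er.commRingCatIsoToRingEquiv (((i ∣_ W).stalkMap z).hom a) :=
      congrArg (fun k => k.hom a) hsq
    rw [RingHom.mem_ker, h1, EmbeddingLike.map_eq_zero_iff, ← RingHom.mem_ker, hk,
      hmap]
    rw [Ideal.mem_map_of_equiv]
    exact ⟨fun ⟨b, hb, e'⟩ => el'.injective e' ▸ hb, fun h => ⟨a, h, rfl⟩⟩
  · intro htop
    rw [smul_eq_mul, Ideal.mul_top] at htop
    have h1 : (1 : X.presheaf.stalk (i x)) ∈ Ideal.ofList ((rs.map g).map el') := by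
      rw [← htop]; exact Submodule.mem_top
    have h2 : Ideal.ofList ((rs.map g).map el') ≤ RingHom.ker (i.stalkMap x).hom := by
      rw [hmap, Ideal.map_le_iff_le_comap]
      intro a ha
      rw [Ideal.mem_comap, RingHom.mem_ker]
      have h1 : (i.stalkMap x).hom (el' a) = er.commRingCatIsoToRingEquiv (((i ∣_ W).stalkMap z).hom a) :=
        congrArg (fun k => k.hom a) hsq
      show (i.stalkMap x).hom (el' a) = 0
      rw [h1, show ((i ∣_ W).stalkMap z).hom a = 0 from RingHom.mem_ker.1 (hk.ge ha), map_zero]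
    have := RingHom.mem_ker.1 (h2 h1)
    rw [map_one] at this
    exact one_ne_zero this

theorem smooth_of_regular (x : Y) (hY : x ∈ (i ≫ f).smoothLocus)
    (h : CInt.IsRegularIdeal (RingHom.ker (i.stalkMap x).hom)) : i x ∈ f.smoothLocus := by
  obtain ⟨_, ⟨V, hV, rfl⟩, hxV, -⟩ :=
    S.isBasis_affineOpens.exists_subset_of_mem_open (Set.mem_univ (f (i x))) isOpen_univ
  obtain ⟨_, ⟨U, hU, rfl⟩, hxU, hUV⟩ :=
    X.isBasis_affineOpens.exists_subset_of_mem_open (show i x ∈ f ⁻¹ᵁ V from hxV) (f ⁻¹ᵁ V).isOpen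
  replace hU : IsAffineOpen U := hU
  replace hV : IsAffineOpen V := hV
  haveI : IsClosedImmersion (i ∣_ U) := IsZariskiLocalAtTarget.restrict ‹IsClosedImmersion i› U
  obtain ⟨hU', hs⟩ := Groth.Agent.Synt29.surjective_app_of_isClosedImmersion_restrict i U hU
  have hU'V : i ⁻¹ᵁ U ≤ (i ≫ f) ⁻¹ᵁ V := fun y hy => hUV hy
  haveI : IsNoetherianRing Γ(S, V) := IsLocallyNoetherian.component_noetherian ⟨V, hV⟩
  letI algB : Algebra Γ(S, V) Γ(X, U) := (f.appLE V U hUV).hom.toAlgebra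
  haveI : Algebra.FiniteType Γ(S, V) Γ(X, U) := f.finiteType_appLE hV hU hUV
  letI algC : Algebra Γ(S, V) Γ(Y, i ⁻¹ᵁ U) := ((i ≫ f).appLE V (i ⁻¹ᵁ U) hU'V).hom.toAlgebra
  let φ : Γ(X, U) →ₐ[Γ(S, V)] Γ(Y, i ⁻¹ᵁ U) :=
    { (i.app U).hom with
      commutes' := fun r => by
        have hc : f.appLE V U hUV ≫ i.app U = (i ≫ f).appLE V (i ⁻¹ᵁ U) hU'V := by
          rw [← Scheme.Hom.appLE_comp_appLE i f V U (i ⁻¹ᵁ U) hUV le_rfl, Scheme.Hom.app_eq_appLE]
        exact congrArg (fun k => k.hom r) hc }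
  let J : Ideal Γ(X, U) := RingHom.ker φ.toRingHom
  let e : (Γ(X, U) ⧸ J) ≃ₐ[Γ(S, V)] Γ(Y, i ⁻¹ᵁ U) := Ideal.quotientKerAlgEquivOfSurjective hs
  let P : Ideal Γ(Y, i ⁻¹ᵁ U) := (hU'.primeIdealOf ⟨x, hxU⟩).asIdeal
  let q : Ideal Γ(X, U) := (hU.primeIdealOf ⟨i x, hxU⟩).asIdeal
  have hP : Algebra.IsSmoothAt Γ(S, V) P := (formallySmooth_stalkMap_iff V hV _ hU' hU'V hxU).1 hY
  let P₁ : Ideal (Γ(X, U) ⧸ J) := P.comap e.toRingHom
  haveI : P₁.IsPrime := Ideal.comap_isPrime _ _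
  have hP₁ : Algebra.IsSmoothAt Γ(S, V) P₁ := smoothAt_of_regular.isSmoothAt_of_algEquiv e P hP
  have hq : q = P₁.comap (Ideal.Quotient.mk J) := by
    have hcomap : q = P.comap (i.app U).hom := by
      rw [show (i.app U).hom = (i.appLE U (i ⁻¹ᵁ U) le_rfl).hom by simp only [Scheme.Hom.app_eq_appLE]]
      exact (congrArg PrimeSpectrum.asIdeal
        (IsAffineOpen.comap_primeIdealOf_appLE (f := i) U hU (i ⁻¹ᵁ U) hU' le_rfl hxU)).symm
    exact hcomap.trans (Ideal.ext fun a => Iff.rfl)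
  rw [Scheme.Hom.mem_smoothLocus, formallySmooth_stalkMap_iff V hV U hU hUV hxU]
  letI : Algebra Γ(X, U) (X.presheaf.stalk (i x)) := (X.presheaf.germ U (i x) hxU).hom.toAlgebra
  haveI : IsLocalization.AtPrime (X.presheaf.stalk (i x)) q := hU.isLocalization_stalk ⟨i x, hxU⟩
  let ε : X.presheaf.stalk (i x) ≃ₐ[Γ(X, U)] Localization.AtPrime q :=
    IsLocalization.algEquiv q.primeCompl _ _
  obtain ⟨rs, hrs, hgen⟩ := h
  refine smoothAt_of_regular J P₁ q hq hP₁ (rs.map ε.toRingEquiv)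
    ((ε.toRingEquiv.toAddEquiv.isWeaklyRegular_congr
      (List.forall₂_map_right_iff.mpr (List.forall₂_same.mpr fun r _ a => map_mul ε r a))).1
      hrs.toIsWeaklyRegular) ?_
  rw [show Ideal.ofList (rs.map ε.toRingEquiv) = (Ideal.ofList rs).map ε.toRingEquiv.toRingHom from
    (Ideal.map_ofList ε.toRingEquiv.toRingHom rs).symm, hgen, ker_stalkMap_eq_map i U hU hU' hs x hxU, Ideal.map_map]
  refine congrArg (fun k => Ideal.map k J) (RingHom.ext fun a => ?_)
  exact (ε.commutes a).symm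

end Groth.Agent.H9RegSm
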